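import Cfsg.Agent.Lib.CNTheorem.Basic
import Cfsg.Agent.Lib.CNTheorem.Structure

/-!
Maximal nilpotent subgroups of CN-groups: they are Hall subgroups, TI unless of prime power order,
and contain the centralisers of their nonidentity elements when TI.
-/

set_option autoImplicit false
set_option linter.style.haveILetI false

namespace Cfsg.Agent.Lib.CNSolvable

open Subgroup
open Cfsg.Agent.Lib
open Cfsg.Agent.Lib.CNTheorem

universe u

variable {G : Type u} [Group G] [Finite G]

/-- An element of a nilpotent subgroup `H` commuting with a Sylow subgroup `T ≤ H` of the right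
prime, and itself a `p`-element, is central in `H`. -/
theorem commute_of_sylow_of_nilpotent {p : ℕ} [Fact p.Prime] {H : Subgroup G}
    (hH : Group.IsNilpotent H) (T : Sylow p H) {c : G} (hc : c ∈ H) {k : ℕ}
    (hck : orderOf c = p ^ k) (hT : ∀ t : H, t ∈ (T : Subgroup H) → Commute (t : G) c)
    {h : G} (hh : h ∈ H) : Commute h c := by
  have htop : (centralizer ({c} : Set G)).subgroupOf H = ⊤ := by
    refine eq_top_of_sylow_of_coprime T (fun t ht => mem_centralizer_iff_commute.mpr (hT t ht))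
      fun z hz => mem_centralizer_iff_commute.mpr (commute_of_mem_nilpotent hH z.2 hc ?_)
    rw [Subgroup.subtype_apply, Subgroup.orderOf_coe, hck]
    exact hz.pow_right k
  exact mem_centralizer_iff_commute.mp (subgroupOf_eq_top.mp htop hh)

variable (hCN : Cfsg.IsCNGroup G) {H : Subgroup G} (hH : Group.IsNilpotent H)
  (hmax : ∀ L : Subgroup G, Group.IsNilpotent L → H ≤ L → L = H)

include hCN hmax in
theorem centralizer_eq_of_central {c : G} (hc1 : c ≠ 1) (hc : ∀ h ∈ H, Commute h c) :
    centralizer ({c} : Set G) = H :=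
  hmax _ (hCN c hc1) fun h hh => mem_centralizer_iff_commute.mpr (hc h hh)

include hCN hH hmax in
/-- A maximal nilpotent subgroup contains a Sylow subgroup of `G` for each prime of its order. -/
theorem exists_sylow_le_max {p : ℕ} [hp : Fact p.Prime] (hd : p ∣ Nat.card H) :
    ∃ P : Sylow p G, (P : Subgroup G) ≤ H := by
  obtain ⟨T⟩ := (inferInstance : Nonempty (Sylow p H))
  have hT1 : (T : Subgroup H) ≠ ⊥ := by
    intro e
    exact hp.out.not_dvd_one ((Subgroup.card_eq_one.mpr e) ▸ T.dvd_card_of_dvd_card hd)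
  obtain ⟨c, hcT, hc1, hc⟩ := exists_central_ne_one T.2.isNilpotent hT1
  obtain ⟨k, hk⟩ := IsPGroup.iff_orderOf.mp T.2 ⟨c, hcT⟩
  rw [Subgroup.orderOf_mk] at hk
  have hcen := centralizer_eq_of_central hCN hmax (c := (c : G))
    (fun e => hc1 (Subtype.ext e)) (fun h hh => commute_of_sylow_of_nilpotent hH T c.2
      (by rw [Subgroup.orderOf_coe, hk]) (fun t ht => (hc t ht).map H.subtype) hh)
  obtain ⟨S, hS⟩ := (T.2.map H.subtype).exists_le_sylow
  have hcS : (c : G) ∈ S := hS ⟨c, hcT, rfl⟩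
  have hS1 : (S : Subgroup G) ≠ ⊥ := fun e =>
    hc1 (Subtype.ext (Subgroup.mem_bot.mp (e ▸ hcS)))
  obtain ⟨u, huS, hu1, hu⟩ := exists_central_ne_one S.2.isNilpotent hS1
  have huH : u ∈ H := hcen ▸ mem_centralizer_iff_commute.mpr (hu (c : G) hcS).symm
  obtain ⟨i, hi⟩ := IsPGroup.iff_orderOf.mp S.2 ⟨u, huS⟩
  rw [Subgroup.orderOf_mk] at hi
  have hcu := centralizer_eq_of_central hCN hmax hu1 (fun h hh =>
    commute_of_sylow_of_nilpotent hH T huH hi (fun t ht => hu t (hS ⟨t, ht, rfl⟩)) hh)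
  exact ⟨S, fun y hy => hcu ▸ mem_centralizer_iff_commute.mpr (hu y hy)⟩

include hCN hH hmax in
/-- A maximal nilpotent subgroup is a Hall subgroup. -/
theorem coprime_index : (Nat.card H).Coprime H.index := by
  refine Nat.coprime_of_dvd fun p hp hd hd' => ?_
  haveI := Fact.mk hp
  obtain ⟨P, hP⟩ := exists_sylow_le_max hCN hH hmax hd
  exact P.not_dvd_index (hd'.trans (index_dvd_of_le hP))

omit [Finite G] in
theorem conj_mem_map {g x : G} (hx : x ∈ H) :
    g * x * g⁻¹ ∈ H.map (MulAut.conj g).toMonoidHom := ⟨x, hx, rfl⟩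

omit [Finite G] in
theorem mem_of_mem_map_conj {g x : G} (hx : x ∈ H.map (MulAut.conj g).toMonoidHom) :
    g⁻¹ * x * g ∈ H := by
  obtain ⟨y, hy, rfl⟩ := hx
  simpa [mul_assoc] using hy

include hCN hH hmax in
/-- Two conjugates meeting nontrivially are equal, unless the order is a prime power. -/
theorem map_conj_eq_of_meet_max (hnp : ¬ IsPrimePow (Nat.card H)) {g x : G} (hx : x ∈ H)
    (hx1 : x ≠ 1) (hxg : g⁻¹ * x * g ∈ H) : H.map (MulAut.conj g).toMonoidHom = H := by
  obtain ⟨i, hi⟩ := exists_pow_orderOf_prime hx1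
  have hxg' : g⁻¹ * x ^ i * g ∈ H := by
    have h := H.pow_mem hxg i
    rwa [show (g⁻¹ * x * g) ^ i = g⁻¹ * x ^ i * g by
      simpa using conj_pow (i := i) (a := g⁻¹) (b := x)] at h
  replace hx := H.pow_mem hx i
  generalize x ^ i = y at hi hxg' hx
  clear hxg hx1
  haveI := Fact.mk hi
  obtain ⟨q, hq, hqd, hqp⟩ : ∃ q : ℕ, q.Prime ∧ q ∣ Nat.card H ∧ q ≠ orderOf y := by
    by_contra! hne
    have hd : orderOf y ∣ Nat.card H := orderOf_dvd_natCard _ hx
    refine hnp ((isPrimePow_iff_unique_prime_dvd).mpr ⟨orderOf y, ⟨hi, hd⟩, ?_⟩)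
    exact fun q ⟨hq, hqd⟩ => hne q hq hqd
  haveI := Fact.mk hq
  obtain ⟨Q, hQ⟩ := exists_sylow_le_max hCN hH hmax hqd
  have hy1 : y ≠ 1 := fun e => hi.ne_one (by rw [e, orderOf_one])
  have hcop : ∀ z ∈ Q, ∀ w : G, orderOf w = orderOf y → (orderOf z).Coprime (orderOf w) := by
    intro z hz w hw
    obtain ⟨n, hn⟩ := IsPGroup.iff_orderOf.mp Q.2 ⟨z, hz⟩
    rw [Subgroup.orderOf_mk] at hn
    rw [hn, hw]
    exact Nat.Coprime.pow_left n ((Nat.coprime_primes hq hi).mpr hqp)
  -- both `Q` and `g Q g⁻¹` lie in the nilpotent centraliser of `y`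
  set C := centralizer ({y} : Set G) with hC
  have h1 : ∀ z ∈ Q, z ∈ C := fun z hz =>
    mem_centralizer_iff_commute.mpr (commute_of_mem_nilpotent hH (hQ hz) hx (hcop z hz y rfl))
  have h2 : ∀ z ∈ Q, g * z * g⁻¹ ∈ C := by
    intro z hz
    have ho : orderOf (g⁻¹ * y * g) = orderOf y := by
      simpa using orderOf_injective (MulAut.conj g⁻¹).toMonoidHom (MulAut.conj g⁻¹).injective y
    have h3 : Commute z (g⁻¹ * y * g) :=
      commute_of_mem_nilpotent hH (hQ hz) hxg' (hcop z hz _ ho)
    have h4 := h3.map (MulAut.conj g).toMonoidHom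
    refine mem_centralizer_iff_commute.mpr ?_
    simpa [mul_assoc] using h4
  haveI : Group.IsNilpotent C := hCN y hy1
  obtain ⟨c, hcQ, hc1, hc⟩ := exists_central_ne_one Q.2.isNilpotent (fun e => by
    have := Q.dvd_card_of_dvd_card (hqd.trans (card_subgroup_dvd_card H))
    rw [e, card_bot] at this
    exact hq.not_dvd_one this)
  -- so `g Q g⁻¹ = Q`
  set QC : Sylow q C := Q.subtype (fun z hz => h1 z hz) with hQC
  have hfle : ∀ z ∈ Q, g * z * g⁻¹ ∈ Q := by
    let f : (Q : Subgroup G) →* C :=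
      ((MulAut.conj g).toMonoidHom.comp (Q : Subgroup G).subtype).codRestrict C
        fun z => h2 z z.2
    obtain ⟨S, hS⟩ := (IsPGroup.of_surjective Q.2 f.rangeRestrict
      f.rangeRestrict_surjective).exists_le_sylow
    haveI := QC.unique_of_normal inferInstance
    rw [Subsingleton.elim S QC] at hS
    exact fun z hz => hS ⟨⟨z, hz⟩, rfl⟩
  have hgc : g⁻¹ * c * g ∈ Q := by
    have heq : (Q : Subgroup G).map (MulAut.conj g).toMonoidHom = Q := by
      refine eq_of_le_of_card_ge ?_ (card_map_of_injective (MulAut.conj g).injective).ge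
      rintro _ ⟨z, hz, rfl⟩
      exact hfle z hz
    exact mem_of_mem_map_conj (H := (Q : Subgroup G)) (heq.symm ▸ hcQ)
  -- both `c` and `g⁻¹ c g` are central in `H`
  have hcen : ∀ d ∈ Q, (∀ z ∈ Q, Commute z d) → ∀ h ∈ H, Commute h d := by
    intro d hd hdc h hh
    obtain ⟨n, hn⟩ := IsPGroup.iff_orderOf.mp Q.2 ⟨d, hd⟩
    rw [Subgroup.orderOf_mk] at hn
    exact commute_of_sylow_of_nilpotent hH (Q.subtype hQ) (hQ hd) hn
      (fun t ht => hdc t ht) hh
  have hdc : ∀ z ∈ Q, Commute z (g⁻¹ * c * g) := by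
    -- `g Q g⁻¹ = Q` as well
    intro z hz
    have h3 : g * z * g⁻¹ ∈ Q := hfle z hz
    have h4 := (hc _ h3).map (MulAut.conj g⁻¹).toMonoidHom
    simpa [mul_assoc] using h4
  have e1 := centralizer_eq_of_central hCN hmax hc1 (hcen c hcQ hc)
  have e2 := centralizer_eq_of_central hCN hmax (c := g⁻¹ * c * g)
    (fun e => hc1 (by
      calc c = g * (g⁻¹ * c * g) * g⁻¹ := by group
        _ = 1 := by rw [e]; group)) (hcen _ hgc hdc)
  refine eq_of_le_of_card_ge ?_ (card_map_of_injective (MulAut.conj g).injective).ge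
  rintro _ ⟨h, hh, rfl⟩
  rw [← e2] at hh
  rw [← e1]
  refine mem_centralizer_iff_commute.mpr ?_
  have h5 := (mem_centralizer_iff_commute.mp hh).map (MulAut.conj g).toMonoidHom
  simpa [mul_assoc] using h5

include hCN hH hmax in
/-- A TI maximal nilpotent subgroup contains the centralisers of its nonidentity elements. -/
theorem centralizer_le_of_ti
    (hti : ∀ g : G, H.map (MulAut.conj g).toMonoidHom ≠ H →
      H ⊓ H.map (MulAut.conj g).toMonoidHom = ⊥) {x : G} (hx : x ∈ H) (hx1 : x ≠ 1) :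
    centralizer ({x} : Set G) ≤ H := by
  obtain ⟨i, hi⟩ := exists_pow_orderOf_prime hx1
  refine le_trans (centralizer_le_centralizer_pow x i) ?_
  replace hx := H.pow_mem hx i
  generalize x ^ i = y at hi hx
  clear hx1
  set p := orderOf y
  haveI := Fact.mk hi
  have hy1 : y ≠ 1 := fun e => hi.ne_one (by rw [show p = orderOf y from rfl, e, orderOf_one])
  haveI : Group.IsNilpotent (centralizer ({y} : Set G)) := hCN y hy1
  obtain ⟨P, hP⟩ := exists_sylow_le_max hCN hH hmax (orderOf_dvd_natCard _ hx : p ∣ Nat.card H)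
  haveI : Group.IsNilpotent H := hH
  obtain ⟨T⟩ := (inferInstance : Nonempty (Sylow p (centralizer ({y} : Set G))))
  -- it suffices that `p`-elements and `p'`-elements of the centraliser lie in `H`
  refine subgroupOf_eq_top.mp (eq_top_of_sylow_of_coprime T ?_ ?_)
  · intro t ht
    show (t : G) ∈ H
    have htN : H.map (MulAut.conj (t : G)).toMonoidHom = H := by
      by_contra hne
      have h1 : y ∈ H ⊓ H.map (MulAut.conj (t : G)).toMonoidHom :=
        ⟨hx, y, hx, by simp [(mem_centralizer_iff_commute.mp t.2).eq]⟩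
      rw [hti _ hne] at h1
      exact hy1 (mem_bot.mp h1)
    have htn : (t : G) ∈ normalizer (H : Set G) := by
      refine mem_normalizer_iff.mpr fun z => ?_
      constructor
      · intro hz
        exact htN ▸ conj_mem_map hz
      · intro hz
        rw [← htN] at hz
        simpa [mul_assoc] using mem_of_mem_map_conj hz
    obtain ⟨k, hk⟩ := IsPGroup.iff_orderOf.mp T.2 ⟨t, ht⟩
    rw [Subgroup.orderOf_mk, ← Subgroup.orderOf_coe] at hk
    set N := normalizer (H : Set G)
    haveI : (H.subgroupOf N).Normal := normal_in_normalizer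
    have htk : IsPGroup p (zpowers (⟨t, htn⟩ : N)) :=
      IsPGroup.of_card (n := k) (by rw [Nat.card_zpowers, Subgroup.orderOf_mk, hk])
    obtain ⟨S, hS⟩ := htk.exists_le_sylow
    have hidx : ¬ p ∣ (H.subgroupOf N).index := fun hd =>
      P.not_dvd_index ((hd.trans (relIndex_dvd_index_of_le le_normalizer)).trans
        (index_dvd_of_le hP))
    have hSH : (S : Subgroup N) ≤ H.subgroupOf N := by
      intro s hs
      obtain ⟨j, hj⟩ := IsPGroup.iff_orderOf.mp S.2 ⟨s, hs⟩
      rw [Subgroup.orderOf_mk] at hj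
      refine (QuotientGroup.eq_one_iff s).mp (orderOf_eq_one_iff.mp ?_)
      refine Nat.eq_one_of_dvd_coprimes ((hi.coprime_iff_not_dvd.mpr hidx).pow_left j)
        (hj ▸ orderOf_map_dvd (QuotientGroup.mk' _) s) ?_
      exact orderOf_dvd_natCard _
    exact hSH (hS (mem_zpowers _))
  · intro z hz
    show (z : G) ∈ H
    obtain ⟨c, hcP, hc1, hc⟩ := exists_central_ne_one P.2.isNilpotent (fun e => by
      have := P.dvd_card_of_dvd_card
        ((orderOf_dvd_natCard _ hx : p ∣ Nat.card H).trans (card_subgroup_dvd_card H))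
      rw [e, card_bot] at this
      exact hi.not_dvd_one this)
    obtain ⟨n, hn⟩ := IsPGroup.iff_orderOf.mp P.2 ⟨c, hcP⟩
    rw [Subgroup.orderOf_mk] at hn
    have hcH := fun h hh => commute_of_sylow_of_nilpotent hH (P.subtype hP) (hP hcP) hn
      (fun t ht => hc t ht) (h := h) hh
    rw [← centralizer_eq_of_central hCN hmax hc1 hcH]
    refine mem_centralizer_iff_commute.mpr ?_
    exact commute_of_commute_of_coprime hCN hy1 (mem_centralizer_iff_commute.mp z.2)
      (hcH y hx).symm (by rw [hn, Subgroup.orderOf_coe]; exact hz.pow_right n)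

end Cfsg.Agent.Lib.CNSolvable
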