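import Cfsg.Agent.Lib.CNSolvable.NormalSylow
import Cfsg.Agent.Lib.CNTheorem.ThreeStep
import Cfsg.Agent.Lib.NilpotentLocal.Basic

/-!
A nilpotent Frobenius complement is cyclic, or a cyclic group of odd order times a quaternion group.
-/

set_option autoImplicit false
set_option linter.style.haveILetI false

namespace Cfsg.Agent.Lib.CNSolvable

open Subgroup
open Cfsg.Agent.Lib
open Cfsg.Agent.Lib.CNTheorem

universe u

variable {G : Type u} [Group G] [Finite G]

theorem nilpotent_complement_structure {H E : Subgroup G} [H.Normal] (hc : IsComplement' H E)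
    (hH : H ≠ ⊥) (hHn : Group.IsNilpotent H) (hEn : Group.IsNilpotent E)
    (hfpf : ∀ e ∈ E, e ≠ 1 → H ⊓ centralizer ({e} : Set G) = ⊥) :
    IsCyclic E ∨ ∃ C Q : Subgroup G, C ⊔ Q = E ∧ (∀ a ∈ C, ∀ b ∈ Q, a * b = b * a) ∧
      IsCyclic C ∧ Odd (Nat.card C) ∧ ∃ n : ℕ, Nonempty (↥Q ≃* QuaternionGroup (2 ^ n)) := by
  classical
  haveI := hEn
  by_cases hZ : IsZGroup E
  · exact Or.inl inferInstance
  refine Or.inr ?_
  obtain ⟨p, hp, P, hP⟩ : ∃ p : ℕ, ∃ _ : Fact p.Prime, ∃ P : Sylow p E, ¬ IsCyclic P := by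
    by_contra! h
    exact hZ ⟨fun p hp P => h p ⟨hp⟩ P⟩
  haveI := hp
  obtain ⟨rfl, n, hn⟩ := (Frobenius.sylow_cyclic_or_quaternion hc hH hfpf p P).resolve_left hP
  obtain ⟨S, K, hKn, hK⟩ := NilpotentLocal.hasNormalPComplement_of_isNilpotent (G := E) (p := 2)
  set C := K.map E.subtype with hC
  set Q := (S : Subgroup E).map E.subtype with hQ
  have hodd : Odd (Nat.card C) := by
    rw [hC, card_map_of_injective E.subtype_injective, ← Nat.not_even_iff_odd, even_iff_two_dvd]
    intro h2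
    refine S.not_dvd_index ?_
    rw [hK.index_eq_card]
    exact h2
  refine ⟨C, Q, ?_, ?_, ?_, hodd, n, ?_⟩
  · rw [hC, hQ, ← Subgroup.map_sup, hK.sup_eq_top, ← MonoidHom.range_eq_map, range_subtype]
  · rintro _ ⟨a, ha, rfl⟩ _ ⟨b, hb, rfl⟩
    refine congrArg Subtype.val
      (NilpotentPerm.commute_of_coprime_orderOf hEn (a := a) (b := b) ?_)
    have h1 : (Nat.card K).Coprime (Nat.card (S : Subgroup E)) := by
      have := S.card_coprime_index
      rw [hK.index_eq_card] at this
      exact this.symm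
    exact (h1.coprime_dvd_left (orderOf_dvd_natCard _ ha)).coprime_dvd_right
      (orderOf_dvd_natCard _ hb)
  · haveI := hHn
    haveI : Nontrivial H := (H.nontrivial_iff_ne_bot).mpr hH
    set V := (Subgroup.center H).map H.subtype with hV
    haveI : V.Normal := ConjAct.normal_of_characteristic_of_normal
    haveI : IsMulCommutative V := by
      refine ⟨⟨fun a b => Subtype.ext ?_⟩⟩
      obtain ⟨⟨_, ⟨a', ha, rfl⟩⟩, ⟨_, ⟨b', hb, rfl⟩⟩⟩ := a, b
      show (a' : G) * (b' : G) = (b' : G) * (a' : G)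
      exact congrArg Subtype.val (mem_center_iff.mp hb a')
    have hV1 : V ≠ ⊥ := by
      rw [hV, Ne, map_eq_bot_iff_of_injective _ H.subtype_injective]
      obtain ⟨c, hc', hc1⟩ := (bot_or_exists_ne_one _).resolve_left
        (Nilp.inf_center_ne_bot_of_normal (N := (⊤ : Subgroup H)) top_ne_bot)
      exact fun e => hc1 (mem_bot.mp (e ▸ hc'.2))
    refine isCyclic_of_nilpotent_fpf C V hV1
      (fun a _ => by rw [Subgroup.normalizer_eq_top]; exact mem_top a)
      (isNilpotent_of_le (Subgroup.map_subtype_le _) hEn) hodd ?_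
    intro a ha ha1
    exact eq_bot_iff.mpr ((inf_le_inf_right _ (Subgroup.map_subtype_le _)).trans
      (hfpf a (Subgroup.map_subtype_le _ ha) ha1).le)
  · haveI := P.unique_of_normal inferInstance
    obtain ⟨e⟩ := hn
    rw [Subsingleton.elim P S] at e
    exact ⟨((S : Subgroup E).equivMapOfInjective E.subtype E.subtype_injective).symm.trans e⟩

end Cfsg.Agent.Lib.CNSolvable
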