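import Cfsg.Prelude.Def_OddOrderLocal
import Cfsg.Agent.Lib.CNTheorem.ThreeStep
import Cfsg.Agent.Lib.CNTheorem.Structure
import Cfsg.Agent.Lib.CNSolvable.NormalSylow
import Cfsg.Agent.Lib.NilpotentLocal.Basic

/-!
A solvable CN-group without normal Sylow subgroup is a three-step group.
-/

set_option autoImplicit false
set_option linter.style.haveILetI false

namespace Cfsg.Agent.Lib.CNSolvable

open Subgroup
open Cfsg.Agent.Lib
open Cfsg.Agent.Lib.CNTheorem

universe u

variable {X : Type u} [Group X] [Finite X]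

/-- In a cyclic normal subgroup every element generates a normal subgroup. -/
theorem conj_mem_zpowers {F : Subgroup X} [hn : F.Normal] [IsCyclic F] {a : X} (ha : a ∈ F) (g : X) :
    g * a * g⁻¹ ∈ zpowers a := by
  obtain ⟨u, hu⟩ := IsCyclic.exists_generator (α := F)
  obtain ⟨i, hi⟩ := hu ⟨a, ha⟩
  obtain ⟨j, hj⟩ := hu ⟨g * (u : X) * g⁻¹, hn.conj_mem _ u.2 g⟩
  have hi' : ((u : X)) ^ i = a := by
    simpa only [Subgroup.coe_zpow] using congrArg Subtype.val hi
  have hj' : ((u : X)) ^ j = g * (u : X) * g⁻¹ := by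
    simpa only [Subgroup.coe_zpow] using congrArg Subtype.val hj
  refine ⟨j, ?_⟩
  show a ^ j = g * a * g⁻¹
  rw [← hi', ← conj_zpow, ← hj', ← zpow_mul, ← zpow_mul, mul_comm]

/-- A nilpotent group of prime `p` dividing its order and trivial `p`-core does not exist. -/
theorem not_isNilpotent_of_pCore_eq_bot {p : ℕ} [Fact p.Prime] (hd : p ∣ Nat.card X)
    (h : Cfsg.pCore p X = ⊥) : ¬ Group.IsNilpotent X := by
  intro hn
  obtain ⟨S⟩ := (inferInstance : Nonempty (Sylow p X))
  have h1 : (S : Subgroup X) ≤ Cfsg.pCore p X := PSolvable.le_pCore S.2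
  rw [h, le_bot_iff] at h1
  have := S.dvd_card_of_dvd_card hd
  rw [h1, card_bot] at this
  exact (Fact.out : p.Prime).not_dvd_one this

/-- If no nontrivial Sylow subgroup is normal, the centraliser of some `p`-core lies inside it. -/
theorem exists_centralizer_pCore_le [Group.IsSolvable X] [Nontrivial X] (hCN : Cfsg.IsCNGroup X)
    (hno : ∀ (p : ℕ) [Fact p.Prime] (P : Sylow p X), (P : Subgroup X).Normal →
      (P : Subgroup X) = ⊥) :
    ∃ p : ℕ, ∃ _ : Fact p.Prime, centralizer (Cfsg.pCore p X : Set X) ≤ Cfsg.pCore p X ∧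
      Cfsg.pCore p X ≠ ⊥ := by
  have hF := Fitting.centralizer_fittingSubgroup_le (G := X)
  set F := Cfsg.fittingSubgroup X with hFdef
  have hFne : F ≠ ⊥ := by
    intro e
    rw [e] at hF
    have : centralizer ((⊥ : Subgroup X) : Set X) = ⊤ :=
      eq_top_iff.mpr fun x _ => mem_centralizer_iff.mpr fun y hy => by
        rw [mem_bot.mp hy, one_mul, mul_one]
    rw [this, le_bot_iff] at hF
    exact top_ne_bot hF
  obtain ⟨p, hp, hpne⟩ : ∃ p : ℕ, ∃ _ : Fact p.Prime, Cfsg.pCore p X ≠ ⊥ := by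
    obtain ⟨x, hx⟩ := exists_prime_orderOf_dvd_card' (G := F) (Nat.card F).minFac
      (hp := ⟨Nat.minFac_prime (fun e => hFne (card_eq_one.mp e))⟩) (Nat.minFac_dvd _)
    haveI : Fact (Nat.card F).minFac.Prime :=
      ⟨Nat.minFac_prime (fun e => hFne (card_eq_one.mp e))⟩
    refine ⟨(Nat.card F).minFac, inferInstance, fun e => Fitting.not_dvd_relIndex_pCore_fitting
      (G := X) (Nat.card F).minFac ?_⟩
    rw [e, relIndex_bot_left]
    exact Nat.minFac_dvd _
  haveI := hp
  refine ⟨p, hp, ?_, hpne⟩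
  set R := Cfsg.pCore p X with hRdef
  suffices hFR : F ≤ R by
    exact le_trans (centralizer_le (SetLike.coe_subset_coe.mpr hFR)) (hF.trans hFR)
  haveI hFn : Group.IsNilpotent F := Fitting.isNilpotent_fittingSubgroup
  haveI hFnor : F.Normal := Fitting.fittingSubgroup_normal
  obtain ⟨P⟩ := (inferInstance : Nonempty (Sylow p X))
  have hRP : R ≤ P := PSolvable.pCore_le_sylow P
  have hRF : R ≤ F := Fitting.pCore_le_fittingSubgroup p
  -- `p'`-elements of `F` are trivial
  have key : ∀ w ∈ F, (orderOf w).Coprime p → w = 1 := by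
    intro w hw hwp
    by_contra hw1
    obtain ⟨t, ht, ht1⟩ := (bot_or_exists_ne_one _).resolve_left hpne
    have hRw : ∀ r ∈ R, Commute w r := fun r hr =>
      commute_of_mem_nilpotent hFn hw (hRF hr)
        (coprime_orderOf_of_mem_pGroup PSolvable.pCore_isPGroup hr hwp)
    -- the centraliser of the `p'`-part of `F` contains `P`
    have hPw : ∀ z ∈ F, (orderOf z).Coprime p → ∀ x ∈ P, Commute z x := fun z hz hzp x hx =>
      commute_pGroup hCN P.2 hzp (hRP ht) ht1 (commute_of_mem_nilpotent hFn hz (hRF ht)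
        (coprime_orderOf_of_mem_pGroup PSolvable.pCore_isPGroup ht hzp)) hx
    set W := Cfsg.pPrimeCore p X with hW
    have hwW : ∀ z ∈ F, (orderOf z).Coprime p → z ∈ centralizer (P : Set X) := fun z hz hzp =>
      mem_centralizer_iff.mpr fun x hx => ((hPw z hz hzp x hx).symm).eq
    set C := centralizer ({x : X | x ∈ F ∧ (orderOf x).Coprime p} : Set X) with hCdef
    have hPC : (P : Subgroup X) ≤ C := fun x hx => mem_centralizer_iff.mpr fun z hz =>
      (hPw z hz.1 hz.2 x hx).eq
    haveI hCn : C.Normal := by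
      refine ⟨fun c hc g => mem_centralizer_iff.mpr fun z hz => ?_⟩
      have h1 : g⁻¹ * z * g ∈ {x : X | x ∈ F ∧ (orderOf x).Coprime p} := by
        refine ⟨by simpa using hFnor.conj_mem z hz.1 g⁻¹, ?_⟩
        have ho := orderOf_injective (MulAut.conj g⁻¹).toMonoidHom (MulAut.conj g⁻¹).injective z
        simp only [MulEquiv.toMonoidHom_eq_coe, MonoidHom.coe_coe, MulAut.conj_apply, inv_inv] at ho
        rw [ho]
        exact hz.2
      calc z * (g * c * g⁻¹) = g * ((g⁻¹ * z * g) * c) * g⁻¹ := by group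
        _ = g * (c * (g⁻¹ * z * g)) * g⁻¹ := by rw [mem_centralizer_iff.mp hc _ h1]
        _ = g * c * g⁻¹ * z := by group
    have hCnil : Group.IsNilpotent C := isNilpotent_of_le
      (fun x hx => mem_centralizer_iff_commute.mpr (mem_centralizer_iff.mp hx w ⟨hw, hwp⟩).symm)
      (hCN w hw1)
    haveI hPn : (P : Subgroup X).Normal := by
      haveI := hCnil
      set PC : Sylow p C := P.subtype hPC
      have hPCn : (PC : Subgroup C).Characteristic := PC.characteristic_of_normal inferInstance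
      have h1 : ((PC : Subgroup C).map C.subtype).Normal :=
        ConjAct.normal_of_characteristic_of_normal
      rwa [show (PC : Subgroup C).map C.subtype = (P : Subgroup X) from
        map_subgroupOf_eq_of_le hPC] at h1
    exact ht1 (mem_bot.mp (hno p P hPn ▸ hRP ht))
  intro x hx
  obtain ⟨T⟩ := (inferInstance : Nonempty (Sylow p F))
  have hRTop : (R.subgroupOf F) = ⊤ := by
    refine eq_top_of_sylow_of_coprime T ?_ fun z hz => ?_
    · have hTn : ((T : Subgroup F).map F.subtype).Normal := by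
        haveI : (T : Subgroup F).Characteristic := T.characteristic_of_normal inferInstance
        exact ConjAct.normal_of_characteristic_of_normal
      intro t ht
      exact PSolvable.le_pCore (hN := hTn) (T.2.map F.subtype) ⟨t, ht, rfl⟩
    · show (z : X) ∈ R
      rw [key z z.2 (by rwa [Subgroup.orderOf_coe])]
      exact R.one_mem
  exact subgroupOf_eq_top.mp hRTop hx

/-- A solvable CN-group with `C(O_p) ≤ O_p` and no normal Sylow `p`-subgroup is three-step. -/
theorem isThreeStepGroup [Group.IsSolvable X] (hCN : Cfsg.IsCNGroup X) {p : ℕ} [Fact p.Prime]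
    (hC : centralizer (Cfsg.pCore p X : Set X) ≤ Cfsg.pCore p X) (hRne : Cfsg.pCore p X ≠ ⊥)
    (S : Sylow p X) (hS : (S : Subgroup X) ≠ Cfsg.pCore p X) :
    Cfsg.IsThreeStepGroup p X := by
  classical
  have hp : p.Prime := Fact.out
  set R := Cfsg.pCore p X with hRdef
  haveI hRn : R.Normal := by rw [hRdef]; infer_instance
  have hRp : IsPGroup p R := PSolvable.pCore_isPGroup
  have hRS : R ≤ S := PSolvable.pCore_le_sylow S
  have hfree : ∀ z : X, (orderOf z).Coprime p → ∀ r ∈ R, r ≠ 1 → Commute z r → z = 1 := by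
    intro z hz r hr hr1 hzr
    have hzR : z ∈ R := hC (mem_centralizer_iff.mpr fun y hy =>
      (commute_pGroup hCN hRp hz hr hr1 hzr hy).symm)
    have hself := coprime_orderOf_of_mem_pGroup hRp hzR hz
    rwa [Nat.coprime_self, orderOf_eq_one_iff] at hself
  set q := QuotientGroup.mk' R with hq
  have hCN' : Cfsg.IsCNGroup (X ⧸ R) := isCN_quotient hCN R hRp
  have hcore : Cfsg.pCore p (X ⧸ R) = ⊥ := PSolvable.pCore_quotient_eq_bot
  have hpX : p ∣ Nat.card (X ⧸ R) := by
    by_contra hd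
    refine hS (le_antisymm (fun x hx => (QuotientGroup.eq_one_iff x).mp ?_) hRS)
    obtain ⟨k, hk⟩ := IsPGroup.iff_orderOf.mp S.2 ⟨x, hx⟩
    rw [Subgroup.orderOf_mk] at hk
    exact orderOf_eq_one_iff.mp (Nat.eq_one_of_dvd_coprimes
      ((hp.coprime_iff_not_dvd.mpr hd).pow_left k) (hk ▸ orderOf_map_dvd q x)
      (orderOf_dvd_natCard _))
  set Fb := Cfsg.fittingSubgroup (X ⧸ R) with hFbdef
  haveI hFbn : Fb.Normal := Fitting.fittingSubgroup_normal
  have hFcop : (Nat.card Fb).Coprime p := by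
    rw [Nat.coprime_comm, hp.coprime_iff_not_dvd]
    intro hd
    refine Fitting.not_dvd_relIndex_pCore_fitting (G := X ⧸ R) p ?_
    rw [hcore, relIndex_bot_left]
    exact hd
  have hCFb : centralizer (Fb : Set (X ⧸ R)) ≤ Fb := Fitting.centralizer_fittingSubgroup_le
  -- a complement `U` of `R` over the Fitting subgroup
  set F := Fb.comap q with hFdef
  haveI : F.Normal := hFbn.comap q
  have hRF : R ≤ F := QuotientGroup.le_comap_mk' R Fb
  obtain ⟨k, hk⟩ := hRp.exists_card_eq
  have hidx : (R.subgroupOf F).index = Nat.card Fb := by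
    have h1 := PSolvable.card_mul_relIndex hRF
    rw [PSolvable.card_comap_mk'] at h1
    exact Nat.eq_of_mul_eq_mul_left Nat.card_pos h1
  obtain ⟨U0, hU0⟩ := Subgroup.exists_right_complement'_of_coprime (N := R.subgroupOf F) (by
    rw [hidx, Nat.card_congr (subgroupOfEquivOfLe hRF).toEquiv, hk]
    exact (hFcop.pow_right k).symm)
  set U := U0.map F.subtype with hUdef
  have hUcard : Nat.card U = Nat.card Fb := by
    rw [hUdef, card_map_of_injective F.subtype_injective, ← hidx, hU0.symm.index_eq_card]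
  have hUcop : ∀ a ∈ U, (orderOf a).Coprime p := fun a ha =>
    hFcop.coprime_dvd_left (hUcard ▸ Subgroup.orderOf_dvd_natCard _ ha)
  have hUR : U ⊓ R = ⊥ := by
    refine eq_bot_iff.mpr fun a ha => mem_bot.mpr ?_
    have hself := coprime_orderOf_of_mem_pGroup hRp ha.2 (hUcop a ha.1)
    rwa [Nat.coprime_self, orderOf_eq_one_iff] at hself
  have hUimg : U.map q = Fb := by
    refine eq_of_le_of_card_ge ?_ (le_of_eq ?_)
    · rintro _ ⟨_, ⟨a, -, rfl⟩, rfl⟩
      exact a.2
    · have h1 := SZ.card_map_mul_card_inf_ker q U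
      rw [hq, QuotientGroup.ker_mk', hUR, card_bot, mul_one] at h1
      rw [hq, h1, hUcard]
  have hUinj : ∀ a ∈ U, ∀ b ∈ U, q a = q b → a = b := by
    intro a ha b hb hab
    have h2 : a⁻¹ * b ∈ U ⊓ R := ⟨U.mul_mem (U.inv_mem ha) hb, QuotientGroup.eq.mp hab⟩
    rw [hUR, mem_bot, inv_mul_eq_one] at h2
    exact h2
  have hUnil : Group.IsNilpotent U := by
    haveI : Group.IsNilpotent Fb := Fitting.isNilpotent_fittingSubgroup
    refine isNilpotent_of_injective ((q.comp U.subtype).codRestrict Fb fun a =>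
      hUimg ▸ mem_map_of_mem q a.2) ?_
    intro a b hab
    exact Subtype.ext (hUinj a a.2 b b.2 (congrArg Subtype.val hab))
  have hFne : Fb ≠ ⊥ := by
    intro e
    rw [e] at hCFb
    have h1 : centralizer ((⊥ : Subgroup (X ⧸ R)) : Set (X ⧸ R)) = ⊤ :=
      eq_top_iff.mpr fun x _ => mem_centralizer_iff.mpr fun y hy => by
        rw [mem_bot.mp hy, one_mul, mul_one]
    rw [h1, le_bot_iff] at hCFb
    haveI : Subsingleton (X ⧸ R) :=
      Subgroup.subsingleton_iff.mp (subsingleton_of_bot_eq_top hCFb.symm)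
    rw [Nat.card_of_subsingleton (1 : X ⧸ R)] at hpX
    exact hp.not_dvd_one hpX
  have hUne : U ≠ ⊥ := fun e => hFne (by rw [← hUimg, e, Subgroup.map_bot])
  -- `U` is cyclic of odd order
  set Y := omegaCenter p R with hYdef
  haveI hYn : Y.Normal := omegaCenter_normal R
  have hY : Cfsg.IsElementaryAbelian p Y := isElementaryAbelian_omegaCenter R
  haveI : IsMulCommutative Y := hY.1
  have hYne : Y ≠ ⊥ := omegaCenter_ne_bot hRp hRne
  have hfreeY : ∀ z : X, (orderOf z).Coprime p → z ≠ 1 → Y ⊓ centralizer {z} = ⊥ := by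
    intro z hz hz1
    refine eq_bot_iff.mpr fun y hy => mem_bot.mpr (by_contra fun hy1 => hz1 ?_)
    exact hfree z hz y hy.1.1 hy1 (mem_centralizer_iff_commute.mp hy.2).symm
  have hinvol : ∀ z ∈ U, z * z = 1 → z ≠ 1 → ∀ y ∈ Y, z * y * z⁻¹ = y⁻¹ := by
    intro z hz hz2 hz1 y hy
    have hzy : z * y * z⁻¹ ∈ Y := hYn.conj_mem y hy z
    have hcm : Commute y (z * y * z⁻¹) :=
      congrArg Subtype.val (mul_comm' (⟨y, hy⟩ : Y) ⟨_, hzy⟩)
    have hw : y * (z * y * z⁻¹) ∈ Y ⊓ centralizer {z} := by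
      refine ⟨Y.mul_mem hy hzy, mem_centralizer_iff_commute.mpr ?_⟩
      have hzi : z⁻¹ = z := inv_eq_of_mul_eq_one_right hz2
      show y * (z * y * z⁻¹) * z = z * (y * (z * y * z⁻¹))
      calc y * (z * y * z⁻¹) * z = y * z * y := by group
        _ = y * z * y * (z * z) := by rw [hz2, mul_one]
        _ = y * (z * y * z⁻¹) * z := by rw [hz2, mul_one]; group
        _ = (z * y * z⁻¹) * y * z := by rw [hcm.eq]
        _ = z * (y * (z⁻¹ * y * z)) := by group
        _ = z * (y * (z * y * z⁻¹)) := by rw [hzi]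
    rw [hfreeY z (hUcop z hz) hz1, mem_bot] at hw
    exact (inv_eq_of_mul_eq_one_right hw).symm
  have hFodd : Odd (Nat.card Fb) := by
    rw [← Nat.not_even_iff_odd, even_iff_two_dvd]
    intro h2
    obtain ⟨z, hz⟩ := exists_prime_orderOf_dvd_card' (G := Fb) 2 h2
    have hz2 : (z : X ⧸ R) * z = 1 := by
      rw [← pow_two, ← hz, ← Subgroup.coe_pow, pow_orderOf_eq_one, Subgroup.coe_one]
    have hz1 : (z : X ⧸ R) ≠ 1 := fun e => by
      rw [show z = 1 from Subtype.ext e, orderOf_one] at hz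
      omega
    have huniq : ∀ w ∈ Fb, w * w = 1 → w ≠ 1 → w = (z : X ⧸ R) := by
      intro w hw hw2 hw1
      obtain ⟨a, ha, rfl⟩ := (hUimg.symm ▸ hw : w ∈ U.map q)
      obtain ⟨b, hb, hbz⟩ := (hUimg.symm ▸ z.2 : (z : X ⧸ R) ∈ U.map q)
      have ha2 : a * a = 1 := hUinj _ (U.mul_mem ha ha) _ U.one_mem (by rw [map_mul, map_one, hw2])
      have hb2 : b * b = 1 :=
        hUinj _ (U.mul_mem hb hb) _ U.one_mem (by rw [map_mul, map_one, hbz, hz2])
      have ha1 : a ≠ 1 := fun e => hw1 (by rw [e, map_one])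
      have hb1 : b ≠ 1 := fun e => hz1 (by rw [← hbz, e, map_one])
      by_contra hne
      have hab : b⁻¹ * a ≠ 1 := fun e => hne (by rw [← hbz, inv_mul_eq_one.mp e])
      refine hYne (eq_bot_iff.mpr ?_)
      rw [← hfreeY _ (hUcop _ (U.mul_mem (U.inv_mem hb) ha)) hab]
      intro y hy
      refine ⟨hy, mem_centralizer_iff_commute.mpr (Commute.symm ?_)⟩
      have h1 := hinvol a ha ha2 ha1 y hy
      have h2 := hinvol b hb hb2 hb1 y hy
      have h3 : b * y * b⁻¹ = a * y * a⁻¹ := h2.trans h1.symm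
      show b⁻¹ * a * y = y * (b⁻¹ * a)
      calc b⁻¹ * a * y = b⁻¹ * (a * y * a⁻¹) * a := by group
        _ = b⁻¹ * (b * y * b⁻¹) * a := by rw [h3]
        _ = y * (b⁻¹ * a) := by group
    refine not_isNilpotent_of_pCore_eq_bot hpX hcore ?_
    refine isNilpotent_of_eq_top (eq_top_iff.mpr fun g _ => mem_centralizer_iff_commute.mpr ?_)
      (hCN' _ hz1)
    have h1 := huniq (g * z * g⁻¹) (hFbn.conj_mem _ z.2 g) (by
      calc g * (z : X ⧸ R) * g⁻¹ * (g * z * g⁻¹) = g * ((z : X ⧸ R) * z) * g⁻¹ := by group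
        _ = 1 := by rw [hz2]; group) (fun e => hz1 (conj_eq_one_iff.mp e))
    show g * (z : X ⧸ R) = z * g
    calc g * (z : X ⧸ R) = g * z * g⁻¹ * g := by group
      _ = z * g := by rw [h1]
  haveI hUcyc : IsCyclic U := isCyclic_of_nilpotent_fpf U Y hYne
    (fun a _ => by rw [Subgroup.normalizer_eq_top]; exact mem_top a) hUnil (hUcard.symm ▸ hFodd)
    (fun a ha ha1 => hfreeY a (hUcop a ha) ha1)
  haveI hFcyc : IsCyclic Fb := by
    refine isCyclic_of_surjective ((q.comp U.subtype).codRestrict Fb fun a =>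
      hUimg ▸ mem_map_of_mem q a.2) ?_
    rintro ⟨w, hw⟩
    obtain ⟨a, ha, rfl⟩ := (hUimg.symm ▸ hw : w ∈ U.map q)
    exact ⟨⟨a, ha⟩, rfl⟩
  -- centralisers of nonidentity elements of `Fb` lie in it
  have hcent : ∀ a ∈ Fb, a ≠ 1 → centralizer ({a} : Set (X ⧸ R)) ≤ Fb := by
    intro a ha ha1
    haveI : (centralizer ({a} : Set (X ⧸ R))).Normal := by
      refine ⟨fun x hx g => mem_centralizer_iff_commute.mpr ?_⟩
      obtain ⟨i, hi⟩ := conj_mem_zpowers ha g⁻¹
      have h1 : Commute x (g⁻¹ * a * g⁻¹⁻¹) :=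
        hi ▸ ((mem_centralizer_iff_commute.mp hx).zpow_right i)
      have h2 := h1.map (MulAut.conj g).toMonoidHom
      simpa [mul_assoc] using h2
    exact Fitting.le_fittingSubgroup (hCN' a ha1)
  -- the quotient by `Fb` is a `p`-group
  have hindex : ∀ r : ℕ, r.Prime → r ≠ p → ¬ r ∣ Fb.index := by
    intro r hr hrp hd
    haveI := Fact.mk hr
    obtain ⟨T⟩ := (inferInstance : Nonempty (Sylow r (X ⧸ R)))
    by_cases hrF : r ∣ Nat.card Fb
    · obtain ⟨T', hT'⟩ := exists_prime_orderOf_dvd_card' (G := Fb) r hrF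
      obtain ⟨S', hS'⟩ := (IsPGroup.of_card (p := r) (n := 1)
        (by rw [Nat.card_zpowers, Subgroup.orderOf_coe, hT', pow_one] :
          Nat.card (zpowers (T' : X ⧸ R)) = r ^ 1)).exists_le_sylow
      have hne : Fb.subgroupOf (S' : Subgroup (X ⧸ R)) ≠ ⊥ := by
        intro e
        have h1 : (⟨(T' : X ⧸ R), hS' (mem_zpowers _)⟩ : (S' : Subgroup (X ⧸ R))) ∈
            Fb.subgroupOf (S' : Subgroup (X ⧸ R)) := T'.2
        rw [e, mem_bot] at h1
        have h2 : (T' : X ⧸ R) = 1 := congrArg (fun w : (S' : Subgroup (X ⧸ R)) => (w : X ⧸ R)) h1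
        rw [show T' = 1 from Subtype.ext h2, orderOf_one] at hT'
        exact hr.ne_one hT'.symm
      haveI : Group.IsNilpotent (S' : Subgroup (X ⧸ R)) := S'.2.isNilpotent
      obtain ⟨c, hc, hc1⟩ :=
        (bot_or_exists_ne_one _).resolve_left (Nilp.inf_center_ne_bot_of_normal hne)
      have hle : (S' : Subgroup (X ⧸ R)) ≤ Fb := fun x hx =>
        hcent c hc.1 (fun e => hc1 (Subtype.ext e)) (mem_centralizer_iff_commute.mpr
          (congrArg Subtype.val (mem_center_iff.mp hc.2 ⟨x, hx⟩)))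
      exact S'.not_dvd_index (hd.trans (index_dvd_of_le hle))
    · obtain ⟨y, hy⟩ := exists_prime_orderOf_dvd_card' (G := X ⧸ R) r
        (hd.trans (index_dvd_card Fb))
      have hFne1 : Nat.card Fb ≠ 1 := fun e => hFne (card_eq_one.mp e)
      set s := (Nat.card Fb).minFac
      haveI : Fact s.Prime := ⟨Nat.minFac_prime hFne1⟩
      obtain ⟨a, ha⟩ := exists_prime_orderOf_dvd_card' (G := Fb) s (Nat.minFac_dvd _)
      have hao : orderOf (a : X ⧸ R) = s := by rw [Subgroup.orderOf_coe, ha]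
      have ha1 : (a : X ⧸ R) ≠ 1 := fun e =>
        (Fact.out : s.Prime).ne_one (by rw [← hao, e, orderOf_one])
      set A := zpowers (a : X ⧸ R) with hAdef
      haveI : A.Normal := ⟨fun x hx g => by
        obtain ⟨i, rfl⟩ := hx
        have := conj_mem_zpowers a.2 g
        show g * (a : X ⧸ R) ^ i * g⁻¹ ∈ A
        rw [← conj_zpow]
        exact A.zpow_mem this i⟩
      set W := A ⊔ zpowers y with hW
      have hsp : s.Coprime p := hFcop.coprime_dvd_left (Nat.minFac_dvd _)
      have hrs : r ≠ s := fun e => hrF (e ▸ Nat.minFac_dvd _)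
      have hWcard : Nat.card W = s * r := by
        have h1 := PSolvable.card_mul_relIndex (le_sup_left : A ≤ W)
        have h2 := Subgroup.relIndex_sup_left (K := A) (H := zpowers y)
        rw [← h1, h2, ← inf_relIndex_right, show A ⊓ zpowers y = ⊥ from ?_, relIndex_bot_left,
          Nat.card_zpowers, Nat.card_zpowers, hao, hy]
        rw [eq_bot_iff]
        rintro x ⟨hx1, hx2⟩
        refine mem_bot.mpr (orderOf_eq_one_iff.mp ?_)
        have h3 := orderOf_dvd_natCard _ hx1
        have h4 := orderOf_dvd_natCard _ hx2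
        rw [Nat.card_zpowers, hao] at h3
        rw [Nat.card_zpowers, hy] at h4
        exact Nat.eq_one_of_dvd_coprimes ((Nat.coprime_primes Fact.out hr).mpr (Ne.symm hrs)) h3 h4
      have hWcop : (Nat.card W).Coprime p := by
        rw [hWcard]
        exact hsp.mul_left ((Nat.coprime_primes hr hp).mpr hrp)
      set W' := W.comap q with hW'
      have hRW : R ≤ W' := QuotientGroup.le_comap_mk' R W
      have hidxW : (R.subgroupOf W').index = Nat.card W := by
        have h1 := PSolvable.card_mul_relIndex hRW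
        rw [PSolvable.card_comap_mk'] at h1
        exact Nat.eq_of_mul_eq_mul_left Nat.card_pos h1
      obtain ⟨V0, hV0⟩ := Subgroup.exists_right_complement'_of_coprime (N := R.subgroupOf W') (by
        rw [hidxW, Nat.card_congr (subgroupOfEquivOfLe hRW).toEquiv, hk]
        exact (hWcop.pow_right k).symm)
      set V := V0.map W'.subtype with hVdef
      have hVcard : Nat.card V = s * r := by
        rw [hVdef, card_map_of_injective W'.subtype_injective, ← hWcard, ← hidxW,
          hV0.symm.index_eq_card]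
      letI := Frobenius.FPF.conjAction V Y
        (fun a _ => by rw [Subgroup.normalizer_eq_top]; exact mem_top a)
      have hf : Frobenius.FPF.IsFPF V Y := Frobenius.FPF.isFPF_conjAction V Y _ fun b hb hb1 =>
        hfreeY b ((hWcop.coprime_dvd_left (by rw [hWcard, ← hVcard]; exact orderOf_dvd_natCard _ hb))) hb1
      haveI : Nontrivial Y := (Y.nontrivial_iff_ne_bot).mpr hYne
      letI : CommGroup Y := { (inferInstance : Group Y) with mul_comm := fun a b => mul_comm' a b }
      haveI hVc : IsCyclic V := Frobenius.FPF.isCyclic_of_card_prime_mul_prime hf Fact.out hr hVcard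
      have hVmap : W ≤ V.map q := by
        intro w hw
        obtain ⟨x, rfl⟩ := QuotientGroup.mk'_surjective R w
        obtain ⟨⟨⟨t, ht⟩, ⟨v, hv⟩⟩, htv⟩ := hV0.2 ⟨x, hw⟩
        refine ⟨v, ⟨v, hv, rfl⟩, ?_⟩
        have hx : (t : X) * v = x := congrArg Subtype.val htv
        rw [← hx, map_mul, show q (t : X) = 1 from (QuotientGroup.eq_one_iff _).mpr ht, one_mul]
      obtain ⟨v₁, hv₁, e₁⟩ := hVmap (mem_sup_left (mem_zpowers _) : (a : X ⧸ R) ∈ W)
      obtain ⟨v₂, hv₂, e₂⟩ := hVmap (mem_sup_right (mem_zpowers _) : y ∈ W)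
      letI := hVc.commGroup
      have hc : Commute v₁ v₂ := congrArg Subtype.val (mul_comm (⟨v₁, hv₁⟩ : V) ⟨v₂, hv₂⟩)
      have hyF : y ∈ Fb := hcent a a.2 ha1
        (mem_centralizer_iff_commute.mpr (e₁ ▸ e₂ ▸ (hc.map q).symm))
      exact hrF (hy ▸ orderOf_dvd_natCard _ hyF)
  -- assemble
  have hFU : F = R ⊔ U := by
    refine le_antisymm (fun x hx => ?_) (sup_le hRF ?_)
    · obtain ⟨u, hu, hux⟩ := (hUimg.symm ▸ hx : q x ∈ U.map q)
      have h1 : x * u⁻¹ ∈ R := (QuotientGroup.eq_one_iff _).mp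
        (show q (x * u⁻¹) = 1 by rw [map_mul, map_inv, hux, mul_inv_cancel])
      simpa using mul_mem (mem_sup_left (T := U) h1) (mem_sup_right (S := R) hu)
    · rintro _ ⟨u, -, rfl⟩
      exact u.2
  have hFindex : F.index = Fb.index := Fb.index_comap_of_surjective (QuotientGroup.mk'_surjective R)
  refine ⟨hRne, U, hUne, hUcyc, hUcard.symm ▸ hFodd, hUcard.symm ▸ hFcop, ?_, ?_, ?_, ?_, ?_⟩
  · rw [← hFU]; infer_instance
  · rw [← hFU]
    intro e
    rw [← index_eq_one, hFindex] at e
    have : Nat.card Fb = Nat.card (X ⧸ R) := by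
      rw [← Fb.card_mul_index, e, mul_one]
    rw [this] at hFcop
    exact hp.coprime_iff_not_dvd.mp hFcop.symm hpX
  · rw [← hFU, hFindex]
    refine ⟨_, Nat.eq_prime_pow_of_unique_prime_dvd index_ne_zero_of_finite ?_⟩
    intro r hr hd
    by_contra hrp
    exact hindex r hr hrp hd
  · intro a ha ha1
    refine eq_bot_iff.mpr fun y hy => mem_bot.mpr (by_contra fun hy1 => ha1 ?_)
    exact hfree a (hUcop a ha) y hy.1 hy1 (mem_centralizer_iff_commute.mp hy.2).symm
  · intro x hx a ha ha1 hmem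
    rw [← hFU] at hx
    refine hx (hcent (q a) (hUimg ▸ mem_map_of_mem q ha) (fun e => ha1 ?_)
      (mem_centralizer_iff_commute.mpr ?_))
    · exact hUinj a ha 1 U.one_mem (by rw [e, map_one])
    · have h1 : q (x * a * x⁻¹ * a⁻¹) = 1 := (QuotientGroup.eq_one_iff _).mpr hmem
      rw [map_mul, map_mul, map_mul, map_inv, map_inv, mul_inv_eq_one, mul_inv_eq_iff_eq_mul] at h1
      exact h1

end Cfsg.Agent.Lib.CNSolvable
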